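/-
Tools for producing affine opens containing finitely many points.
-/
import Mathlib.AlgebraicGeometry.AffineScheme
import Mathlib.AlgebraicGeometry.Stalk
import Mathlib.AlgebraicGeometry.Morphisms.QuasiCompact
import Mathlib.AlgebraicGeometry.Morphisms.QuasiSeparated
import Mathlib.AlgebraicGeometry.Properties
import Mathlib.RingTheory.Ideal.Maximal

set_option autoImplicit false
set_option backward.isDefEq.respectTransparency.types false
set_option linter.style.haveILetI false

universe u

open CategoryTheory AlgebraicGeometry TopologicalSpace Opposite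

namespace Groth.Agent.AffinePts

variable {X : Scheme.{u}}

/-- The sections which do not vanish at `x`. -/
noncomputable def unitsAt (V : X.Opens) (x : X) (hx : x ∈ V) : Submonoid Γ(X, V) :=
  (IsUnit.submonoid (X.presheaf.stalk x)).comap (X.presheaf.germ V x hx).hom.toMonoidHom

theorem mem_unitsAt {V : X.Opens} {x : X} {hx : x ∈ V} {a : Γ(X, V)} :
    a ∈ unitsAt V x hx ↔ x ∈ X.basicOpen a :=
  (X.mem_basicOpen a x hx).symm

/-- A closed subset of a compact open containing no common generization of two points can be avoided by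
basic opens. -/
theorem exists_basicOpen_disjoint {V V' : X.Opens} (hV : IsAffineOpen V) (hV' : IsAffineOpen V') {x x' : X}
    (hx : x ∈ V) (hx' : x' ∈ V') {M : X.Opens} (hM : IsCompact (M : Set X)) (hMV : M ≤ V) (hMV' : M ≤ V')
    {Q : Set X} (hQ : IsClosed Q) (h : ∀ z ∈ M, z ∈ Q → z ⤳ x → z ⤳ x' → False) :
    ∃ (s : Γ(X, V)) (s' : Γ(X, V')), x ∈ X.basicOpen s ∧ x' ∈ X.basicOpen s' ∧
      ∀ z ∈ M, z ∈ Q → z ∈ X.basicOpen s → z ∈ X.basicOpen s' → False := by
  classical
  obtain ⟨P, hPfin, hPM⟩ := isCompact_iff_finite_and_eq_biUnion_affineOpens.mp hM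
  have piece : ∀ i : X.affineOpens, i ∈ P → ∃ (s : Γ(X, V)) (s' : Γ(X, V')), x ∈ X.basicOpen s ∧ x' ∈ X.basicOpen s' ∧
      ∀ z ∈ (i : X.Opens), z ∈ Q → z ∈ X.basicOpen s → z ∈ X.basicOpen s' → False := by
    intro i hi
    have hiM : (i : X.Opens) ≤ M := by
      rw [hPM]
      exact le_iSup₂ (f := fun (j : X.affineOpens) (_ : j ∈ P) => (j : X.Opens)) i hi
    obtain ⟨L₀, hL₀⟩ := (PrimeSpectrum.isClosed_iff_zeroLocus _).mp (hQ.preimage i.2.fromSpec.continuous)
    let r₁ := X.presheaf.map (homOfLE (hiM.trans hMV)).op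
    let r₂ := X.presheaf.map (homOfLE (hiM.trans hMV')).op
    set S : Submonoid Γ(X, i) := (unitsAt V x hx).map r₁.hom.toMonoidHom ⊔ (unitsAt V' x' hx').map r₂.hom.toMonoidHom
      with hS
    by_cases hdisj : Disjoint ((Ideal.span L₀ : Ideal Γ(X, i)) : Set Γ(X, i)) S
    · exfalso
      obtain ⟨r, hr, hLr, hrS⟩ := Ideal.exists_le_prime_disjoint _ _ hdisj
      let q : PrimeSpectrum Γ(X, i) := ⟨r, hr⟩
      have hzi : i.2.fromSpec q ∈ (i : X.Opens) := by
        have : i.2.fromSpec q ∈ Set.range i.2.fromSpec := ⟨q, rfl⟩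
        rwa [i.2.range_fromSpec] at this
      have hzQ : i.2.fromSpec q ∈ Q := by
        have h0 : q ∈ PrimeSpectrum.zeroLocus L₀ := fun l hl => hLr (Ideal.subset_span hl)
        rw [← hL₀] at h0
        exact h0
      have key : ∀ (W : X.Opens) (hW : (i : X.Opens) ≤ W) (a : Γ(X, W)),
          X.presheaf.map (homOfLE hW).op a ∉ r → i.2.fromSpec q ∈ X.basicOpen a := by
        intro W hW a ha
        have h1 : q ∈ i.2.fromSpec ⁻¹ᵁ X.basicOpen (X.presheaf.map (homOfLE hW).op a) := by
          rw [i.2.fromSpec_preimage_basicOpen]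
          exact ha
        have h2 : i.2.fromSpec q ∈ X.basicOpen (X.presheaf.map (homOfLE hW).op a) := h1
        rw [Scheme.basicOpen_res] at h2
        exact h2.2
      refine h _ (hiM hzi) hzQ (specializes_iff_forall_open.mpr fun o ho hxo => ?_)
        (specializes_iff_forall_open.mpr fun o ho hxo => ?_)
      · obtain ⟨a, hao, hxa⟩ := hV.exists_basicOpen_le (V := ⟨o, ho⟩) ⟨x, hxo⟩ hx
        refine hao (key V (hiM.trans hMV) a fun har => ?_)
        exact Set.disjoint_left.mp hrS har (Submonoid.mem_sup_left ⟨a, mem_unitsAt.mpr hxa, rfl⟩)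
      · obtain ⟨a, hao, hxa⟩ := hV'.exists_basicOpen_le (V := ⟨o, ho⟩) ⟨x', hxo⟩ hx'
        refine hao (key V' (hiM.trans hMV') a fun har => ?_)
        exact Set.disjoint_left.mp hrS har (Submonoid.mem_sup_right ⟨a, mem_unitsAt.mpr hxa, rfl⟩)
    · obtain ⟨l, hlL, hlS⟩ := Set.not_disjoint_iff.mp hdisj
      obtain ⟨_, ⟨a, ha, rfl⟩, _, ⟨a', ha', rfl⟩, hl⟩ := Submonoid.mem_sup.mp hlS
      refine ⟨a, a', mem_unitsAt.mp ha, mem_unitsAt.mp ha', fun z hz hzQ hza hza' => ?_⟩
      obtain ⟨q, hq⟩ : z ∈ Set.range i.2.fromSpec := by rw [i.2.range_fromSpec]; exact hz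
      have hzl : z ∈ X.basicOpen l := by
        rw [← hl, Scheme.basicOpen_mul]
        refine ⟨?_, ?_⟩
        · show z ∈ X.basicOpen (r₁ a)
          rw [Scheme.basicOpen_res]
          exact ⟨hz, hza⟩
        · show z ∈ X.basicOpen (r₂ a')
          rw [Scheme.basicOpen_res]
          exact ⟨hz, hza'⟩
      have hql : q ∈ PrimeSpectrum.basicOpen l := by
        rw [← i.2.fromSpec_preimage_basicOpen]
        show i.2.fromSpec q ∈ X.basicOpen l
        rw [hq]; exact hzl
      have hqL : q ∈ PrimeSpectrum.zeroLocus L₀ := by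
        rw [← hL₀]
        show i.2.fromSpec q ∈ Q
        rw [hq]; exact hzQ
      exact hql ((Ideal.span_le.mpr hqL : Ideal.span L₀ ≤ q.asIdeal) hlL)
  choose! s s' hs hs' hss using piece
  refine ⟨∏ i ∈ hPfin.toFinset, s i, ∏ i ∈ hPfin.toFinset, s' i, ?_, ?_, fun z hz hzQ hzs hzs' => ?_⟩
  · exact mem_unitsAt (hx := hx).mp (prod_mem fun i hi => mem_unitsAt.mpr (hs i (hPfin.mem_toFinset.mp hi)))
  · exact mem_unitsAt (hx := hx').mp (prod_mem fun i hi => mem_unitsAt.mpr (hs' i (hPfin.mem_toFinset.mp hi)))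
  · have hz' := hz
    rw [hPM] at hz'
    obtain ⟨i, hi, hzi⟩ : ∃ i ∈ P, z ∈ (i : X.Opens) := by simpa using hz'
    refine hss i hi z hzi hzQ ?_ ?_
    · obtain ⟨c, hc⟩ := Finset.dvd_prod_of_mem s (hPfin.mem_toFinset.mpr hi)
      rw [hc, Scheme.basicOpen_mul] at hzs
      exact hzs.1
    · obtain ⟨c, hc⟩ := Finset.dvd_prod_of_mem s' (hPfin.mem_toFinset.mpr hi)
      rw [hc, Scheme.basicOpen_mul] at hzs'
      exact hzs'.1

section StalkIso

variable {T : Scheme.{u}} (f : T ⟶ X)

/-- The function on the stalk at `f t` induced by a global function on `T`. -/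
noncomputable def transfer (t : T) [IsIso (f.stalkMap t)] (b : Γ(T, ⊤)) : X.presheaf.stalk (f t) :=
  inv (f.stalkMap t) (T.presheaf.germ ⊤ t trivial b)

theorem stalkMap_transfer (t : T) [IsIso (f.stalkMap t)] (b : Γ(T, ⊤)) :
    f.stalkMap t (transfer f t b) = T.presheaf.germ ⊤ t trivial b := by
  show (inv (f.stalkMap t) ≫ f.stalkMap t) _ = _
  rw [IsIso.inv_hom_id]
  rfl

theorem stalkMap_specializes_transfer (t : T) [IsIso (f.stalkMap t)] {τ : T} (h : τ ⤳ t) (b : Γ(T, ⊤)) :
    f.stalkMap τ (X.presheaf.stalkSpecializes (h.map f.continuous) (transfer f t b)) =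
      T.presheaf.germ ⊤ τ trivial b := by
  refine (Scheme.Hom.stalkSpecializes_stalkMap_apply f τ t h _).trans ?_
  rw [stalkMap_transfer]
  exact TopCat.Presheaf.germ_stalkSpecializes_apply T.presheaf (show t ∈ (⊤ : T.Opens) from trivial) h b

/-- Generizations of the image lift. -/
theorem exists_specializes_lift (t : T) [IsIso (f.stalkMap t)] {z : X} (h : z ⤳ f t) :
    ∃ τ : T, τ ⤳ t ∧ f τ = z := by
  have hz : z ∈ Set.range (X.fromSpecStalk (f t)) := by
    rw [Scheme.range_fromSpecStalk]; exact h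
  obtain ⟨q, rfl⟩ := hz
  obtain ⟨q', rfl⟩ := (Spec.map (f.stalkMap t)).surjective q
  refine ⟨T.fromSpecStalk t q', ?_, ?_⟩
  · have : T.fromSpecStalk t q' ∈ Set.range (T.fromSpecStalk t) := ⟨q', rfl⟩
    rwa [Scheme.range_fromSpecStalk] at this
  · exact (congr($(Scheme.SpecMap_stalkMap_fromSpecStalk f (x := t)) q')).symm

variable [IsAffine T]

/-- Near a point where the stalk map is an isomorphism all stalk maps at generizations are isomorphisms. -/
theorem bijective_stalkMap_of_specializes (t : T) [IsIso (f.stalkMap t)] {τ : T} (h : τ ⤳ t) :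
    Function.Bijective (f.stalkMap τ) := by
  letI := T.presheaf.algebra_section_stalk (⟨τ, trivial⟩ : (⊤ : T.Opens))
  haveI := (isAffineOpen_top T).isLocalization_stalk ⟨τ, trivial⟩
  letI algT : Algebra Γ(T, ⊤) (T.presheaf.stalk t) := T.presheaf.algebra_section_stalk (⟨t, trivial⟩ : (⊤ : T.Opens))
  haveI := (isAffineOpen_top T).isLocalization_stalk ⟨t, trivial⟩
  haveI := LocallyRingedSpace.isLocalHomStalkMap f.toLRSHom τ
  let sp := X.presheaf.stalkSpecializes (h.map f.continuous)
  let φ : Γ(T, ⊤) →+* X.presheaf.stalk (f τ) :=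
    (sp.hom.comp (inv (f.stalkMap t)).hom).comp (T.presheaf.germ ⊤ t trivial).hom
  have hφ : ∀ b, f.stalkMap τ (φ b) = algebraMap Γ(T, ⊤) (T.presheaf.stalk τ) b := fun b =>
    stalkMap_specializes_transfer f t h b
  have hunit : ∀ u : ((isAffineOpen_top T).primeIdealOf ⟨τ, trivial⟩).asIdeal.primeCompl, IsUnit (φ u) := fun u => by
    refine IsUnit.of_map (f.stalkMap τ).hom _ ?_
    rw [hφ]
    exact IsLocalization.map_units _ u
  let ψ := IsLocalization.lift (S := T.presheaf.stalk τ) hunit
  have hcomp : (ψ.comp (f.stalkMap τ).hom).comp sp.hom = sp.hom := by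
    have h1 : ψ.comp (T.presheaf.stalkSpecializes h).hom = sp.hom.comp (inv (f.stalkMap t)).hom := by
      refine IsLocalization.ringHom_ext ((isAffineOpen_top T).primeIdealOf ⟨t, trivial⟩).asIdeal.primeCompl
        (RingHom.ext fun b => ?_)
      show ψ (T.presheaf.stalkSpecializes h (T.presheaf.germ ⊤ t trivial b)) = φ b
      rw [TopCat.Presheaf.germ_stalkSpecializes_apply]
      exact IsLocalization.lift_eq hunit b
    ext y
    show ψ (f.stalkMap τ (sp y)) = sp y
    rw [Scheme.Hom.stalkSpecializes_stalkMap_apply f τ t h y]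
    refine (RingHom.congr_fun h1 (f.stalkMap t y)).trans ?_
    show sp ((f.stalkMap t ≫ inv (f.stalkMap t)) y) = sp y
    rw [IsIso.hom_inv_id]
    rfl
  have hleft : ∀ w, ψ (f.stalkMap τ w) = w := by
    obtain ⟨U, hU, hxU, -⟩ := exists_isAffineOpen_mem_and_subset (x := f t) (U := ⊤) trivial
    have hτU : f τ ∈ U := (h.map f.continuous).mem_open U.2 hxU
    letI := X.presheaf.algebra_section_stalk (⟨f τ, hτU⟩ : U)
    haveI := hU.isLocalization_stalk ⟨f τ, hτU⟩
    have h2 : ψ.comp (f.stalkMap τ).hom = RingHom.id _ := by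
      refine IsLocalization.ringHom_ext (hU.primeIdealOf ⟨f τ, hτU⟩).asIdeal.primeCompl (RingHom.ext fun a => ?_)
      have h3 := RingHom.congr_fun hcomp (X.presheaf.germ U (f t) hxU a)
      simp only [RingHom.comp_apply] at h3
      rw [TopCat.Presheaf.germ_stalkSpecializes_apply] at h3
      exact h3
    exact fun w => RingHom.congr_fun h2 w
  refine ⟨fun a b hab => (hleft a).symm.trans ((congrArg ψ hab).trans (hleft b)), fun w => ?_⟩
  obtain ⟨⟨b, u⟩, hbu⟩ := IsLocalization.surj ((isAffineOpen_top T).primeIdealOf ⟨τ, trivial⟩).asIdeal.primeCompl w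
  obtain ⟨v, hv⟩ := (hunit u).exists_right_inv
  refine ⟨φ b * v, ?_⟩
  have h5 : f.stalkMap τ (φ u) * f.stalkMap τ v = 1 := by rw [← map_mul, hv, map_one]
  rw [map_mul, hφ, ← hbu, ← hφ, mul_assoc, h5, mul_one]

/-- If generic points of irreducible components are separated, transfers agree at common generizations. -/
theorem transfer_compat
    (hgen : ∀ a : T, closure ({a} : Set T) ∈ irreducibleComponents (T : Type u) →
      ∀ a' : T, closure ({a'} : Set T) ∈ irreducibleComponents (T : Type u) → f a = f a' → a = a')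
    (t t' : T) [IsIso (f.stalkMap t)] [IsIso (f.stalkMap t')] {z : X} (h : z ⤳ f t) (h' : z ⤳ f t') (b : Γ(T, ⊤)) :
    X.presheaf.stalkSpecializes h (transfer f t b) = X.presheaf.stalkSpecializes h' (transfer f t' b) := by
  obtain ⟨C, hC, hsub⟩ := exists_mem_irreducibleComponents_subset_of_isIrreducible _ (isIrreducible_singleton (x := z))
  obtain ⟨η, hη⟩ := QuasiSober.sober hC.1 (isClosed_of_mem_irreducibleComponents _ hC)
  have hηz : η ⤳ z := hη.specializes (hsub rfl)
  have hηmax : ∀ w : X, w ⤳ η → w = η := by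
    intro w hw
    have hle : closure ({η} : Set X) ⊆ closure {w} :=
      closure_minimal (Set.singleton_subset_iff.mpr (specializes_iff_mem_closure.mp hw)) isClosed_closure
    have := hC.2 (isIrreducible_singleton (x := w)).closure (hη.def ▸ hle)
    exact IsGenericPoint.eq (S := C) (Set.Subset.antisymm this (hη.def ▸ hle)) hη
  have hfib : ∀ (s : T) [IsIso (f.stalkMap s)] (τ τ' : T), τ ⤳ s → τ' ⤳ s → f τ = f τ' → τ = τ' := by
    intro s _ τ τ' hτ hτ' he
    obtain ⟨q, rfl⟩ : τ ∈ Set.range (T.fromSpecStalk s) := by rw [Scheme.range_fromSpecStalk]; exact hτ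
    obtain ⟨q', rfl⟩ : τ' ∈ Set.range (T.fromSpecStalk s) := by rw [Scheme.range_fromSpecStalk]; exact hτ'
    have e1 := congr($(Scheme.SpecMap_stalkMap_fromSpecStalk f (x := s)) q)
    have e2 := congr($(Scheme.SpecMap_stalkMap_fromSpecStalk f (x := s)) q')
    rw [Scheme.Hom.comp_apply, Scheme.Hom.comp_apply] at e1 e2
    rw [(Spec.map (f.stalkMap s)).isOpenEmbedding.injective
      ((X.fromSpecStalk (f s)).isEmbedding.injective (e1.trans (he.trans e2.symm)))]
  obtain ⟨τ, hτ, hτz⟩ := exists_specializes_lift f t h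
  subst hτz
  obtain ⟨τ', hτ', hτz'⟩ := exists_specializes_lift f t' h'
  haveI : IsIso (f.stalkMap τ) :=
    (ConcreteCategory.isIso_iff_bijective _).mpr (bijective_stalkMap_of_specializes f t hτ)
  haveI : IsIso (f.stalkMap τ') :=
    (ConcreteCategory.isIso_iff_bijective _).mpr (bijective_stalkMap_of_specializes f t' hτ')
  obtain ⟨a, ha, haη⟩ := exists_specializes_lift f τ hηz
  obtain ⟨a', ha', haη'⟩ := exists_specializes_lift f τ' (z := η) (hτz'.symm ▸ hηz)
  have hmax : ∀ (s : T) [IsIso (f.stalkMap s)] (c : T), c ⤳ s → f c = η → closure ({c} : Set T) ∈ irreducibleComponents (T : Type u) := by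
    intro s _ c hc hcη
    refine ⟨isIrreducible_singleton.closure, fun Z hZ hle => ?_⟩
    have hcl : IsIrreducible (closure Z) := hZ.closure
    obtain ⟨ζ, hζ⟩ := QuasiSober.sober hcl isClosed_closure
    have hζc : ζ ⤳ c := hζ.specializes (subset_closure (hle (subset_closure rfl)))
    have he : f ζ = η := hηmax _ (hcη ▸ hζc.map f.continuous)
    have := hfib s ζ c (hζc.trans hc) hc (he.trans hcη.symm)
    subst this
    intro w hw
    exact hζ.def ▸ subset_closure hw
  obtain rfl : a = a' := hgen a (hmax τ a ha haη) a' (hmax τ' a' ha' haη') (haη.trans haη'.symm)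
  subst haη
  have hinj := (bijective_stalkMap_of_specializes f τ ha).1
  -- the two points agree
  have hcong : τ = τ' := by
    have hprime : ∀ b, IsUnit (T.presheaf.germ ⊤ τ trivial b) ↔ IsUnit (T.presheaf.germ ⊤ τ' trivial b) := by
      intro b
      have e1 : IsUnit (T.presheaf.germ ⊤ τ trivial b) ↔
          IsUnit (X.presheaf.stalkSpecializes h (transfer f t b)) := by
        rw [← stalkMap_specializes_transfer f t hτ b]
        exact isUnit_map_iff (f.stalkMap τ).hom _
      have e2 : IsUnit (T.presheaf.germ ⊤ τ' trivial b) ↔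
          IsUnit (X.presheaf.stalkSpecializes h' (transfer f t' b)) := by
        have gen : ∀ (w : X) (e : f τ' = w) (hw : w ⤳ f t'), IsUnit (T.presheaf.germ ⊤ τ' trivial b) ↔
            IsUnit (X.presheaf.stalkSpecializes hw (transfer f t' b)) := by
          rintro w rfl hw
          rw [← stalkMap_specializes_transfer f t' hτ' b]
          exact isUnit_map_iff (f.stalkMap τ').hom _
        exact gen _ hτz' h'
      rw [e1, e2]
      set p := X.presheaf.stalkSpecializes h (transfer f t b)
      set q := X.presheaf.stalkSpecializes h' (transfer f t' b)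
      have hd : X.presheaf.stalkSpecializes hηz p = X.presheaf.stalkSpecializes hηz q := by
        apply hinj
        have l1 := stalkMap_specializes_transfer f t (ha.trans hτ) b
        have l2 := stalkMap_specializes_transfer f t' (ha'.trans hτ') b
        simp only [p, q, ← CommRingCat.comp_apply, TopCat.Presheaf.stalkSpecializes_comp] at l1 l2 ⊢
        exact l1.trans l2.symm
      have hdiff : ¬ IsUnit (p - q) := fun hu => by
        have := hu.map (X.presheaf.stalkSpecializes hηz).hom
        rw [map_sub, show (X.presheaf.stalkSpecializes hηz).hom p = (X.presheaf.stalkSpecializes hηz).hom q from hd,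
          sub_self] at this
        exact not_isUnit_zero this
      have hm : p - q ∈ IsLocalRing.maximalIdeal _ := (IsLocalRing.mem_maximalIdeal _).mpr hdiff
      refine ⟨fun hp => ?_, fun hq => ?_⟩
      · by_contra hq
        have := Ideal.add_mem _ hm ((IsLocalRing.mem_maximalIdeal _).mpr hq)
        rw [sub_add_cancel] at this
        exact (IsLocalRing.mem_maximalIdeal _).mp this hp
      · by_contra hp
        have := Ideal.sub_mem _ ((IsLocalRing.mem_maximalIdeal _).mpr hp) hm
        rw [sub_sub_cancel] at this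
        exact (IsLocalRing.mem_maximalIdeal _).mp this hq
    have hτb : ∀ σ : T, ∀ b, b ∈ ((isAffineOpen_top T).primeIdealOf ⟨σ, trivial⟩).asIdeal ↔
        ¬ IsUnit (T.presheaf.germ ⊤ σ trivial b) := fun σ b => by
      letI := T.presheaf.algebra_section_stalk (⟨σ, trivial⟩ : (⊤ : T.Opens))
      haveI := (isAffineOpen_top T).isLocalization_stalk ⟨σ, trivial⟩
      exact (not_iff_comm.mp (IsLocalization.AtPrime.isUnit_to_map_iff _ _ b).symm).symm
    have he : (isAffineOpen_top T).primeIdealOf ⟨τ, trivial⟩ = (isAffineOpen_top T).primeIdealOf ⟨τ', trivial⟩ :=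
      PrimeSpectrum.ext (Ideal.ext fun b => by rw [hτb, hτb, hprime b])
    have he2 := congrArg (isAffineOpen_top T).fromSpec he
    rw [IsAffineOpen.fromSpec_primeIdealOf, IsAffineOpen.fromSpec_primeIdealOf] at he2
    exact he2
  subst hcong
  apply (bijective_stalkMap_of_specializes f t hτ).1
  exact (stalkMap_specializes_transfer f t hτ b).trans (stalkMap_specializes_transfer f t' hτ' b).symm

end StalkIso

end Groth.Agent.AffinePts
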