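/-
An affine open containing the images of finitely many points where the stalk maps are isomorphisms.
-/
import Groth.Agent.AffinePts.Basic
import Mathlib.AlgebraicGeometry.Morphisms.Affine
import Mathlib.RingTheory.Ideal.MinimalPrime.Localization
import Mathlib.Topology.QuasiSeparated

set_option autoImplicit false
set_option backward.isDefEq.respectTransparency.types false
set_option linter.style.haveILetI false

universe u

open CategoryTheory AlgebraicGeometry TopologicalSpace Opposite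

namespace Groth.Agent.AffinePts

variable {X T : Scheme.{u}} [IsAffine T] (f : T ⟶ X)

theorem isUnit_specializes_transfer_iff (t : T) [IsIso (f.stalkMap t)] {z : X} (h : z ⤳ f t) :
    ∀ c : Γ(T, ⊤), IsUnit (X.presheaf.stalkSpecializes h (transfer f t c)) →
      ∃ τ, τ ⤳ t ∧ f τ = z ∧ τ ∈ T.basicOpen c := by
  intro c hc
  obtain ⟨τ, hτ, rfl⟩ := exists_specializes_lift f t h
  refine ⟨τ, hτ, rfl, (T.mem_basicOpen c τ trivial).mpr ?_⟩
  rw [← stalkMap_specializes_transfer f t hτ c]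
  exact hc.map (f.stalkMap τ).hom

theorem isUnit_transfer_iff (t : T) [IsIso (f.stalkMap t)] (c : Γ(T, ⊤)) :
    IsUnit (transfer f t c) ↔ t ∈ T.basicOpen c := by
  rw [T.mem_basicOpen c t trivial, ← stalkMap_transfer f t c]
  exact (isUnit_map_iff (f.stalkMap t).hom _).symm

/-- A function on `T` separating two points relative to an open set of `X`. -/
theorem exists_separating (U : X.Opens) (t t' : T) (htU : f t ∈ U) (hne : ¬ t' ⤳ t) :
    ∃ c : Γ(T, ⊤), t ∈ T.basicOpen c ∧ t' ∉ T.basicOpen c ∧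
      ∀ τ, τ ⤳ t' → f τ ∉ U → τ ∉ T.basicOpen c := by
  have hT := isAffineOpen_top T
  set p := (hT.primeIdealOf ⟨t, trivial⟩).asIdeal
  set p' := (hT.primeIdealOf ⟨t', trivial⟩).asIdeal
  have hmem : ∀ (σ : T) (b : Γ(T, ⊤)), σ ∈ T.basicOpen b ↔ b ∉ (hT.primeIdealOf ⟨σ, trivial⟩).asIdeal := fun σ b => by
    have h1 : σ ∈ T.basicOpen b ↔ hT.primeIdealOf ⟨σ, trivial⟩ ∈ PrimeSpectrum.basicOpen b := by
      rw [← hT.fromSpec_preimage_basicOpen]
      show _ ↔ hT.fromSpec (hT.primeIdealOf ⟨σ, trivial⟩) ∈ T.basicOpen b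
      rw [hT.fromSpec_primeIdealOf]
    exact h1
  have hle : ∀ σ σ' : T, σ ⤳ σ' → (hT.primeIdealOf ⟨σ, trivial⟩).asIdeal ≤ (hT.primeIdealOf ⟨σ', trivial⟩).asIdeal :=
    fun σ σ' h b hb => by
      by_contra hb'
      exact (hmem σ b).mp (h.mem_open (T.basicOpen b).2 ((hmem σ' b).mpr hb')) hb
  have hsp : ∀ (q : PrimeSpectrum Γ(T, ⊤)) (σ : T), q.asIdeal ≤ (hT.primeIdealOf ⟨σ, trivial⟩).asIdeal →
      hT.fromSpec q ⤳ σ := fun q σ hq => by
    have h1 : q ⤳ hT.primeIdealOf ⟨σ, trivial⟩ := (PrimeSpectrum.le_iff_specializes _ _).mp hq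
    have h2 := h1.map hT.fromSpec.continuous
    rwa [hT.fromSpec_primeIdealOf] at h2
  obtain ⟨e, he', he⟩ : ∃ e, e ∈ p' ∧ e ∉ p := by
    refine SetLike.not_le_iff_exists.mp fun h => hne ?_
    have := hsp (hT.primeIdealOf ⟨t', trivial⟩) t h
    rwa [hT.fromSpec_primeIdealOf] at this
  obtain ⟨L₀, hL₀⟩ := (PrimeSpectrum.isClosed_iff_zeroLocus _).mp
    ((U.2.isClosed_compl.preimage f.continuous).preimage hT.fromSpec.continuous)
  letI := T.presheaf.algebra_section_stalk (⟨t', trivial⟩ : (⊤ : T.Opens))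
  haveI := hT.isLocalization_stalk ⟨t', trivial⟩
  set I := (Ideal.span L₀).map (algebraMap Γ(T, ⊤) (T.presheaf.stalk t'))
  have hK : ¬ I.comap (algebraMap Γ(T, ⊤) (T.presheaf.stalk t')) ≤ p := fun hle' => by
    obtain ⟨r, hr, hrp⟩ := Ideal.exists_minimalPrimes_le hle'
    obtain ⟨r', hr', hIr', rfl⟩ := Ideal.exists_comap_eq_of_mem_minimalPrimes _ r hr
    have hrp' : r'.comap (algebraMap Γ(T, ⊤) (T.presheaf.stalk t')) ≤ p' := fun b hb => by
      by_contra hb'
      exact hr'.ne_top (Ideal.eq_top_of_isUnit_mem _ hb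
        (IsLocalization.map_units (T.presheaf.stalk t') (⟨b, hb'⟩ : p'.primeCompl)))
    let q : PrimeSpectrum Γ(T, ⊤) := ⟨r'.comap (algebraMap Γ(T, ⊤) (T.presheaf.stalk t')), Ideal.comap_isPrime _ _⟩
    have hqL : q ∈ PrimeSpectrum.zeroLocus L₀ := fun l hl => hIr' (Ideal.mem_map_of_mem _ (Ideal.subset_span hl))
    rw [← hL₀] at hqL
    exact hqL (((hsp q t hrp).map f.continuous).mem_open U.2 htU)
  obtain ⟨k, hk, hkp⟩ := SetLike.not_le_iff_exists.mp hK
  refine ⟨k * e, (hmem t _).mpr fun h => ((Ideal.IsPrime.mem_or_mem inferInstance h).elim hkp he),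
    fun h => (hmem t' _).mp h (p'.mul_mem_left _ he'), fun τ hτ hτU hτc => ?_⟩
  obtain ⟨⟨⟨a, ha⟩, u⟩, hau⟩ := (IsLocalization.mem_map_algebraMap_iff p'.primeCompl _).mp hk
  rw [← map_mul] at hau
  obtain ⟨v, hv⟩ := (IsLocalization.eq_iff_exists p'.primeCompl _).mp hau
  set q := (hT.primeIdealOf ⟨τ, trivial⟩).asIdeal
  have hLq : Ideal.span L₀ ≤ q := by
    have h0 : hT.primeIdealOf ⟨τ, trivial⟩ ∈ PrimeSpectrum.zeroLocus L₀ := by
      rw [← hL₀]
      show f (hT.fromSpec (hT.primeIdealOf ⟨τ, trivial⟩)) ∉ U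
      rw [hT.fromSpec_primeIdealOf]
      exact hτU
    exact Ideal.span_le.mpr h0
  have h3 : (v : Γ(T, ⊤)) * (k * u) ∈ q := by rw [hv]; exact q.mul_mem_left _ (hLq ha)
  have hv' : (v : Γ(T, ⊤)) ∉ q := fun h => v.2 (hle τ t' hτ h)
  have hu' : (u : Γ(T, ⊤)) ∉ q := fun h => u.2 (hle τ t' hτ h)
  refine (hmem τ _).mp hτc (q.mul_mem_right _ ?_)
  exact ((Ideal.IsPrime.mem_or_mem inferInstance ((Ideal.IsPrime.mem_or_mem inferInstance h3).resolve_left hv'))).resolve_right hu'

variable [QuasiSeparatedSpace X]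

set_option maxHeartbeats 1000000 in
/-- The case of pairwise non-specializing points. -/
theorem exists_affineOpen_containing_of_incomparable
    (hgen : ∀ a : T, closure ({a} : Set T) ∈ irreducibleComponents (T : Type u) →
      ∀ a' : T, closure ({a'} : Set T) ∈ irreducibleComponents (T : Type u) → f a = f a' → a = a')
    {ι : Type*} [Finite ι] (t : ι → T) [∀ i, IsIso (f.stalkMap (t i))] (hinc : ∀ i j, i ≠ j → ¬ t j ⤳ t i) :
    ∃ U : X.Opens, IsAffineOpen U ∧ ∀ i, f (t i) ∈ U := by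
  classical
  cases nonempty_fintype ι
  choose U hU hxU using fun i => exists_isAffineOpen_mem_and_subset (x := f (t i)) (U := ⊤) trivial
  have hxU' := fun i => (hxU i).1
  have hsep : ∀ i j, ∃ c : Γ(T, ⊤), t i ∈ T.basicOpen c ∧ (i ≠ j → t j ∉ T.basicOpen c ∧
      ∀ τ, τ ⤳ t j → f τ ∉ U i → τ ∉ T.basicOpen c) := by
    intro i j
    by_cases h : i = j
    · exact ⟨1, by rw [Scheme.basicOpen_of_isUnit _ isUnit_one]; trivial, fun h' => absurd h h'⟩
    · obtain ⟨c, h1, h2⟩ := exists_separating f (U i) (t i) (t j) (hxU' i) (hinc i j h)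
      exact ⟨c, h1, fun _ => h2⟩
  choose c hc hc' using hsep
  let C : ι → Γ(T, ⊤) := fun i => ∏ j, c i j
  have hC : ∀ i, t i ∈ T.basicOpen (C i) := fun i =>
    (mem_unitsAt (hx := show t i ∈ (⊤ : T.Opens) from trivial)).mp
      (prod_mem fun j _ => (mem_unitsAt (hx := show t i ∈ (⊤ : T.Opens) from trivial)).mpr (hc i j))
  have hC' : ∀ i j τ, τ ∈ T.basicOpen (C i) → τ ∈ T.basicOpen (c i j) := fun i j τ hτ => by
    obtain ⟨d, hd⟩ := Finset.dvd_prod_of_mem (c i) (Finset.mem_univ j)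
    rw [show C i = _ from hd, Scheme.basicOpen_mul] at hτ
    exact hτ.1
  -- representatives
  choose O hxO m hm using fun i j => X.presheaf.exists_germ_eq (x := f (t j)) (transfer f (t j) (C i))
  let O' : ι → X.Opens := fun j => U j ⊓ Finset.univ.inf (fun i => O i j)
  have hxO' : ∀ j, f (t j) ∈ O' j := fun j => ⟨hxU' j, by
    suffices ∀ s : Finset ι, f (t j) ∈ s.inf (fun i => O i j) from this _
    intro s
    induction s using Finset.induction with
    | empty => simp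
    | insert a s _ ih => rw [Finset.inf_insert]; exact ⟨hxO a j, ih⟩⟩
  choose v hv hxv using fun j => (hU j).exists_basicOpen_le (V := O' j) ⟨f (t j), hxO' j⟩ (hxU' j)
  let V : ι → X.Opens := fun j => X.basicOpen (v j)
  have hV : ∀ j, IsAffineOpen (V j) := fun j => (hU j).basicOpen (v j)
  have hVO : ∀ i j, V j ≤ O i j := fun i j => (hv j).trans (inf_le_right.trans (Finset.inf_le (Finset.mem_univ i)))
  let γ : ∀ i j, Γ(X, V j) := fun i j => X.presheaf.map (homOfLE (hVO i j)).op (m i j)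
  have hγ : ∀ i j, X.presheaf.germ (V j) (f (t j)) (hxv j) (γ i j) = transfer f (t j) (C i) := fun i j =>
    (X.presheaf.germ_res_apply (homOfLE (hVO i j)) _ (hxv j) (m i j)).trans (hm i j)
  have hγz : ∀ i j z (hz : z ⤳ f (t j)) (hzV : z ∈ V j),
      X.presheaf.germ (V j) z hzV (γ i j) = X.presheaf.stalkSpecializes hz (transfer f (t j) (C i)) := by
    intro i j z hz hzV
    rw [← hγ, TopCat.Presheaf.germ_stalkSpecializes_apply]
  -- first shrinking
  have bad1 : ∀ i j, ∃ s : Γ(X, V j), f (t j) ∈ X.basicOpen s ∧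
      ∀ z ∈ X.basicOpen (γ i j), z ∈ X.basicOpen s → z ∈ U i := by
    intro i j
    obtain ⟨s, s', hs, hs', hss⟩ := exists_basicOpen_disjoint (hV j) (hV j) (hxv j) (hxv j)
      (M := X.basicOpen (γ i j)) ((hV j).basicOpen (γ i j)).isCompact (X.basicOpen_le _) (X.basicOpen_le _)
      (U i).2.isClosed_compl (fun z hz hzU hzx _ => by
        have hzV := X.basicOpen_le _ hz
        have hu := (X.mem_basicOpen (γ i j) z hzV).mp hz
        rw [hγz i j z hzx hzV] at hu
        obtain ⟨τ, hτ, rfl, hτC⟩ := isUnit_specializes_transfer_iff f (t j) hzx (C i) hu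
        by_cases hij : i = j
        · subst hij
          exact hzU ((hzx.mem_open (U i).2 (hxU' i)))
        · exact (hc' i j hij).2 τ hτ hzU (hC' i j τ hτC))
    refine ⟨s * s', (mem_unitsAt (hx := hxv j)).mp (mul_mem (mem_unitsAt.mpr hs) (mem_unitsAt.mpr hs')), fun z hz hzs => ?_⟩
    rw [Scheme.basicOpen_mul] at hzs
    by_contra hzU
    exact hss z hz hzU hzs.1 hzs.2
  have bad2 : ∀ i j k, ∃ (s : Γ(X, V j)) (s' : Γ(X, V k)), f (t j) ∈ X.basicOpen s ∧ f (t k) ∈ X.basicOpen s' ∧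
      ∀ z (hj : z ∈ V j) (hk : z ∈ V k), z ∈ X.basicOpen s → z ∈ X.basicOpen s' →
        X.presheaf.germ (V j) z hj (γ i j) = X.presheaf.germ (V k) z hk (γ i k) := by
    intro i j k
    set E : Set X := {z | ∃ (hj : z ∈ V j) (hk : z ∈ V k),
      X.presheaf.germ (V j) z hj (γ i j) = X.presheaf.germ (V k) z hk (γ i k)} with hEdef
    have hE : IsOpen E := by
      rw [isOpen_iff_forall_mem_open]
      rintro z ⟨hj, hk, he⟩
      obtain ⟨W, hzW, iU, iV, hW⟩ := X.presheaf.germ_eq z hj hk _ _ he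
      refine ⟨W, fun w hw => ⟨iU.le hw, iV.le hw, ?_⟩, W.2, hzW⟩
      have := congrArg (X.presheaf.germ W w hw) hW
      exact (X.presheaf.germ_res_apply iU w hw _).symm.trans (this.trans (X.presheaf.germ_res_apply iV w hw _))
    obtain ⟨s, s', hs, hs', hss⟩ := exists_basicOpen_disjoint (hV j) (hV k) (hxv j) (hxv k) (M := V j ⊓ V k)
      (QuasiSeparatedSpace.inter_isCompact _ _ (V j).2 (hV j).isCompact (V k).2 (hV k).isCompact)
      inf_le_left inf_le_right hE.isClosed_compl (fun z hz hzE hzj hzk => hzE ⟨hz.1, hz.2, by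
        rw [hγz i j z hzj hz.1, hγz i k z hzk hz.2]
        exact transfer_compat f hgen (t j) (t k) hzj hzk (C i)⟩)
    refine ⟨s, s', hs, hs', fun z hj hk hzs hzs' => ?_⟩
    by_contra hne
    exact hss z ⟨hj, hk⟩ (fun ⟨_, _, he⟩ => hne he) hzs hzs'
  choose s₁ hs₁ hbad1 using bad1
  choose s₂ s₂' hs₂ hs₂' hbad2 using bad2
  let σ₀ : ∀ j, Γ(X, V j) := fun j => (∏ i, s₁ i j) * (∏ p : ι × ι, s₂ p.1 j p.2) * (∏ p : ι × ι, s₂' p.1 p.2 j)
  have hσ₀ : ∀ j, f (t j) ∈ X.basicOpen (σ₀ j) := fun j =>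
    (mem_unitsAt (hx := hxv j)).mp (mul_mem (mul_mem (prod_mem fun i _ => mem_unitsAt.mpr (hs₁ i j))
      (prod_mem fun p _ => mem_unitsAt.mpr (hs₂ p.1 j p.2))) (prod_mem fun p _ => mem_unitsAt.mpr (hs₂' p.1 p.2 j)))
  choose σ hσ using fun j => (hU j).basicOpen_basicOpen_is_basicOpen (v j) (σ₀ j)
  let W : ι → X.Opens := fun j => X.basicOpen (σ₀ j)
  have hWV : ∀ j, W j ≤ V j := fun j => X.basicOpen_le _
  have hW : ∀ j, IsAffineOpen (W j) := fun j => (hV j).basicOpen _
  have hfac : ∀ {j} {z : X}, z ∈ W j → (∀ i, z ∈ X.basicOpen (s₁ i j)) ∧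
      (∀ i k, z ∈ X.basicOpen (s₂ i j k)) ∧ (∀ i k, z ∈ X.basicOpen (s₂' i k j)) := by
    intro j z hz
    simp only [W, σ₀, Scheme.basicOpen_mul] at hz
    obtain ⟨⟨h1, h2⟩, h3⟩ := hz
    refine ⟨fun i => ?_, fun i k => ?_, fun i k => ?_⟩
    · obtain ⟨d, hd⟩ := Finset.dvd_prod_of_mem (fun i => s₁ i j) (Finset.mem_univ i)
      rw [hd, Scheme.basicOpen_mul] at h1
      exact h1.1
    · obtain ⟨d, hd⟩ := Finset.dvd_prod_of_mem (fun p : ι × ι => s₂ p.1 j p.2) (Finset.mem_univ (i, k))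
      rw [hd, Scheme.basicOpen_mul] at h2
      exact h2.1
    · obtain ⟨d, hd⟩ := Finset.dvd_prod_of_mem (fun p : ι × ι => s₂' p.1 p.2 j) (Finset.mem_univ (i, k))
      rw [hd, Scheme.basicOpen_mul] at h3
      exact h3.1
  -- gluing
  let Wt : X.Opens := ⨆ j, W j
  have hglue : ∀ i, ∃ g : Γ(X, Wt), ∀ j,
      X.presheaf.map (homOfLE (le_iSup W j)).op g = X.presheaf.map (homOfLE (hWV j)).op (γ i j) := by
    intro i
    obtain ⟨g, hg, -⟩ := X.sheaf.existsUnique_gluing' W Wt (fun j => homOfLE (le_iSup W j)) le_rfl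
      (fun j => X.presheaf.map (homOfLE (hWV j)).op (γ i j)) (fun j k => by
        refine TopCat.Presheaf.section_ext X.sheaf _ _ _ fun z hz => ?_
        show X.presheaf.germ _ z hz (X.presheaf.map _ (X.presheaf.map _ (γ i j))) =
          X.presheaf.germ _ z hz (X.presheaf.map _ (X.presheaf.map _ (γ i k)))
        exact ((X.presheaf.germ_res_apply _ z hz _).trans (X.presheaf.germ_res_apply _ z hz.1 _)).trans
          ((hbad2 i j k z (hWV j hz.1) (hWV k hz.2) ((hfac hz.1).2.1 i k) ((hfac hz.2).2.2 i j)).trans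
            ((X.presheaf.germ_res_apply _ z hz _).trans (X.presheaf.germ_res_apply _ z hz.2 _)).symm))
    exact ⟨g, hg⟩
  choose g hg using hglue
  have hgW : ∀ i j z (hz : z ∈ W j), z ∈ X.basicOpen (g i) ↔ z ∈ X.basicOpen (γ i j) := by
    intro i j z hz
    have h1 : z ∈ X.basicOpen (X.presheaf.map (homOfLE (le_iSup W j)).op (g i)) ↔
        z ∈ X.basicOpen (X.presheaf.map (homOfLE (hWV j)).op (γ i j)) := by rw [hg]
    rw [Scheme.basicOpen_res, Scheme.basicOpen_res] at h1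
    exact ⟨fun h => (h1.mp ⟨hz, h⟩).2, fun h => (h1.mpr ⟨hz, h⟩).2⟩
  have hgU : ∀ i, X.basicOpen (g i) ≤ U i := fun i z hz => by
    obtain ⟨j, hj⟩ := Opens.mem_iSup.mp (X.basicOpen_le _ hz)
    exact hbad1 i j z ((hgW i j z hj).mp hz) ((hfac hj).1 i)
  have hWtc : IsCompact (Wt : Set X) := by
    rw [Opens.coe_iSup]
    exact isCompact_iUnion fun j => (hW j).isCompact
  choose N a ha using fun i => exists_eq_pow_mul_of_isCompact_of_isQuasiSeparated X Wt hWtc
    (IsQuasiSeparated.of_quasiSeparatedSpace _) (g i) (X.presheaf.map (homOfLE (hgU i)).op (σ i))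
  have hd : ∀ i, X.basicOpen (g i * a i) = X.basicOpen (g i) ⊓ W i := by
    intro i
    rw [Scheme.basicOpen_mul]
    ext z
    simp only [Opens.coe_inf, Set.mem_inter_iff, SetLike.mem_coe]
    refine and_congr_right fun hzg => ?_
    have hzt := X.basicOpen_le _ hzg
    have h1 := congrArg (X.presheaf.germ (X.basicOpen (g i)) z hzg) (ha i)
    simp only [TopCat.Presheaf.restrictOpen, TopCat.Presheaf.restrict, map_mul, map_pow] at h1
    erw [X.presheaf.germ_res_apply, X.presheaf.germ_res_apply, X.presheaf.germ_res_apply] at h1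
    rw [X.mem_basicOpen (a i) z hzt, h1]
    have hgu := (X.mem_basicOpen (g i) z hzt).mp hzg
    refine Iff.trans IsUnit.mul_iff ⟨fun h => ?_, fun h => ⟨hgu.pow _, ?_⟩⟩
    · have : z ∈ X.basicOpen (σ i) := (X.mem_basicOpen (σ i) z (hgU i hzg)).mpr h.2
      rw [hσ] at this
      exact this
    · refine (X.mem_basicOpen (σ i) z (hgU i hzg)).mp ?_
      rw [hσ]
      exact h
  have hxW : ∀ j, f (t j) ∈ W j := hσ₀
  have hxWt : ∀ j, f (t j) ∈ Wt := fun j => Opens.mem_iSup.mpr ⟨j, hxW j⟩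
  have hxg : ∀ i j, f (t j) ∈ X.basicOpen (g i) ↔ t j ∈ T.basicOpen (C i) := fun i j => by
    rw [hgW i j _ (hxW j), X.mem_basicOpen (γ i j) _ (hxv j), hγ, isUnit_transfer_iff]
  let e : Γ(X, Wt) := ∑ i, g i * a i
  have hxe : ∀ j, f (t j) ∈ X.basicOpen e := by
    intro j
    rw [X.mem_basicOpen e _ (hxWt j)]
    have h1 : IsUnit (X.presheaf.germ Wt (f (t j)) (hxWt j) (g j * a j)) := by
      rw [← X.mem_basicOpen _ _ (hxWt j), hd]
      exact ⟨(hxg j j).mpr (hC j), hxW j⟩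
    by_contra hcon
    have h2 : X.presheaf.germ Wt (f (t j)) (hxWt j) (∑ i ∈ Finset.univ.erase j, g i * a i) ∈
        IsLocalRing.maximalIdeal (X.presheaf.stalk (f (t j))) := by
      rw [map_sum]
      refine Submodule.sum_mem _ fun i hi => (IsLocalRing.mem_maximalIdeal _).mpr fun hu => ?_
      rw [← X.mem_basicOpen _ _ (hxWt j), hd] at hu
      exact (hc' i j (Finset.ne_of_mem_erase hi)).1 (hC' i j _ ((hxg i j).mp hu.1))
    have h3 := Ideal.sub_mem _ ((IsLocalRing.mem_maximalIdeal _).mpr hcon) h2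
    rw [← map_sub, show e - ∑ i ∈ Finset.univ.erase j, g i * a i = g j * a j by
      simp only [e]
      rw [← Finset.add_sum_erase _ _ (Finset.mem_univ j), add_sub_cancel_right]] at h3
    exact (IsLocalRing.mem_maximalIdeal _).mp h3 h1
  refine ⟨X.basicOpen e, isAffineOpen_of_isAffineOpen_basicOpen _
    (Set.range fun i => X.presheaf.map (homOfLE (X.basicOpen_le e)).op (g i * a i)) ?_ ?_, hxe⟩
  · refine Ideal.eq_top_of_isUnit_mem _ ?_ (RingedSpace.isUnit_res_basicOpen _ e)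
    show X.presheaf.map (homOfLE (X.basicOpen_le e)).op e ∈ _
    simp only [e, map_sum]
    exact Submodule.sum_mem _ fun i _ => Ideal.subset_span ⟨i, rfl⟩
  · rintro _ ⟨i, rfl⟩
    have hle : X.basicOpen (g i * a i) ≤ W i := by rw [hd]; exact inf_le_right
    have hWiT : W i ≤ Wt := le_iSup W i
    have heq : X.basicOpen (X.presheaf.map (homOfLE (X.basicOpen_le e)).op (g i * a i)) =
        X.basicOpen (X.presheaf.map (homOfLE hWiT).op (e * g i)) := by
      rw [Scheme.basicOpen_res, Scheme.basicOpen_res, hd, Scheme.basicOpen_mul]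
      exact le_antisymm (le_inf (inf_le_right.trans inf_le_right) (le_inf inf_le_left (inf_le_right.trans inf_le_left)))
        (le_inf (inf_le_right.trans inf_le_left) (le_inf (inf_le_right.trans inf_le_right) inf_le_left))
    rw [heq]
    exact (hW i).basicOpen _

/-- An affine open containing the images of finitely many points with isomorphic stalks. -/
theorem exists_affineOpen_containing
    (hgen : ∀ a : T, closure ({a} : Set T) ∈ irreducibleComponents (T : Type u) →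
      ∀ a' : T, closure ({a'} : Set T) ∈ irreducibleComponents (T : Type u) → f a = f a' → a = a')
    (s : Finset T) (hs : ∀ t ∈ s, IsIso (f.stalkMap t)) :
    ∃ U : X.Opens, IsAffineOpen U ∧ ∀ t ∈ s, f t ∈ U := by
  classical
  let s' := s.filter fun t => ∀ t' ∈ s, t ⤳ t' → t' = t
  haveI : ∀ i : s', IsIso (f.stalkMap i.1) := fun i => hs _ (Finset.mem_filter.mp i.2).1
  obtain ⟨U, hU, hmem⟩ := exists_affineOpen_containing_of_incomparable f hgen (fun i : s' => i.1)
    (fun i j hij h => hij (Subtype.ext ((Finset.mem_filter.mp j.2).2 _ (Finset.mem_filter.mp i.2).1 h)))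
  refine ⟨U, hU, fun t ht => ?_⟩
  obtain ⟨m, hm, hmin⟩ := (s.filter fun t' => t ⤳ t').exists_min_image
    (fun m => (s.filter fun u => m ⤳ u).card) ⟨t, Finset.mem_filter.mpr ⟨ht, specializes_rfl⟩⟩
  obtain ⟨hms, htm⟩ := Finset.mem_filter.mp hm
  have hm' : m ∈ s' := Finset.mem_filter.mpr ⟨hms, fun t' ht' h => by
    by_contra hne
    have h1 := hmin t' (Finset.mem_filter.mpr ⟨ht', htm.trans h⟩)
    refine absurd h1 (not_le.mpr (Finset.card_lt_card ⟨fun u hu => ?_, fun hsub => hne ?_⟩))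
    · obtain ⟨hu1, hu2⟩ := Finset.mem_filter.mp hu
      exact Finset.mem_filter.mpr ⟨hu1, h.trans hu2⟩
    · exact ((Finset.mem_filter.mp (hsub (Finset.mem_filter.mpr ⟨hms, specializes_rfl⟩))).2.antisymm h).eq⟩
  exact (htm.map f.continuous).mem_open U.2 (hmem ⟨m, hm'⟩)

end Groth.Agent.AffinePts
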